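import Cfsg.Agent.H521.S8.Eng
import Cfsg.Agent.H393.S8.ON
import Cfsg.Agent.H456.S8.HNSolv
import Cfsg.Agent.SmallSimple.DihedralNormalizer

/-!
# S4908: the row SOC1 of the O'Nan group (helper168), with the engine of helper521 and the superset of helper393

`no32` : no irreducible character of degree 32 (an elementary abelian subgroup of order 81, all elements of order 3 conjugate).
-/

set_option autoImplicit false
set_option maxRecDepth 100000

namespace Cfsg.Agent.H168.S8.ONSoc

open Cfsg Subgroup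
open scoped ComplexConjugate
open Cfsg.Agent.Characters.Core
open Cfsg.Agent.H653.Sieve (deg deg_cast facProd)
open Cfsg.Agent.H210.On7 (Data)
open Cfsg.Agent.H894.J4Two (apply_eq_of_isConj exists_col_rat orderOf_of_card)

universe u v

theorem no32 {G : Type u} [Group G] [Finite G] [IsSimpleGroup G] (Δ : Data G) (χ : IrrCharacter G) : deg χ ≠ 32 := by
  intro hd
  classical
  have := finite_irr (G := G)
  have := Fintype.ofFinite (IrrCharacter G)
  have := Fintype.ofFinite G
  have hz : ∀ w ∈ zpowers Δ.z, w ≠ 1 → IsConj w Δ.z := fun w hw h1 =>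
    Δ.c3 w (orderOf_of_card Nat.prime_three (by rw [Nat.card_zpowers, Δ.oz]) hw h1)
  obtain ⟨T, cT, vT, qT⟩ := exists_col_rat Nat.prime_three Δ.oz hz
  obtain ⟨m, hm⟩ : ∃ m : ℕ, (deg χ : ℤ) + 80 * T χ = 81 * m := by
    have := Fintype.ofFinite Δ.E
    obtain ⟨m, hm⟩ := SmallSimple.TheoremBCor.exists_sum_eq (isIrr_isCharacter χ.2) Δ.E
    rw [← Finset.add_sum_erase _ _ (Finset.mem_univ (1 : Δ.E)), Subgroup.coe_one, deg_cast,
      Finset.sum_congr rfl (g := fun _ => (T χ : ℂ)), Finset.sum_const,
      Finset.card_erase_of_mem (Finset.mem_univ _), Finset.card_univ, ← Nat.card_eq_fintype_card, Δ.cardE] at hm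
    · refine ⟨m, ?_⟩
      have h6 : (((deg χ : ℤ) + 80 * T χ : ℤ) : ℂ) = ((81 * m : ℤ) : ℂ) := by
        push_cast
        simp only [nsmul_eq_mul] at hm
        push_cast at hm
        linear_combination hm
      exact_mod_cast h6
    · intro b hb
      rw [← vT]
      exact apply_eq_of_isConj χ.2 (Δ.c3 b (Δ.expE b b.2 fun e => (Finset.mem_erase.1 hb).1 (Subtype.ext e)))
  have h1 : (χ : G → ℂ) 1 = 32 := by
    rw [deg_cast, hd]
    norm_num
  have hT : |T χ| ≤ 32 := by
    have h2 : ‖(χ : G → ℂ) Δ.z‖ ≤ 32 := by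
      have h3 := Cfsg.Agent.Characters.SchurBound.norm_le (isIrr_isCharacter χ.2) (n := 32) (by rw [h1]; norm_num) Δ.z
      exact_mod_cast h3
    rw [vT, Complex.norm_intCast] at h2
    exact_mod_cast h2
  rw [hd] at hm
  have hT32 : T χ = 32 := by
    rw [abs_le] at hT
    push_cast at hm
    omega
  have h2 : (χ : G → ℂ) Δ.z = (χ : G → ℂ) 1 := by
    rw [vT, hT32, h1]
    norm_num
  have hne : (χ : G → ℂ) ≠ 1 := by
    intro h
    rw [h, Pi.one_apply] at h1
    norm_num at h1
  have h3 := SmallSimple.DihedralNormalizer.eq_one_of_apply_eq χ.2 hne h2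
  have h4 := Δ.oz
  rw [h3, orderOf_one] at h4
  norm_num at h4

open Cfsg.Agent.H691.AN (AlmostSimple)
open Cfsg.Agent.H521.S8
open Cfsg.Agent.H196.S8 (exists_split mem_of_equiv)
open Cfsg.Agent.H393.S8.ON (Adm)

/-- the filter for `O'N` -/
def ok (d : ℕ) : Bool := Adm.contains d && !(Nat.beq d 1) && !(Nat.beq d 32)

/-- the filter for `O'N` and `O'N.2` -/
def f : ℕ → Bool := okD 460815505920 ok

theorem deg_on {d : ℕ} (hd : d ∈ charDegrees Spor.ON) : d = 1 ∨ (d ∣ 460815505920 ∧ ok d = true) := by
  have hs := H393.S8.ON.simple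
  obtain ⟨Δ⟩ := H210.On7.exists_data
  have hA := H393.S8.ON.adm_of_mem hd
  obtain ⟨χ, hχ⟩ := hd
  have h32 : d ≠ 32 := by
    rintro rfl
    exact no32 Δ χ hχ
  by_cases h1 : d = 1
  · exact Or.inl h1
  · right
    refine ⟨?_, ?_⟩
    · rw [← Δ.card, ← hχ]
      exact Blocks.Knorr.charDegree_dvd χ.2
    · have e1 : Nat.beq d 1 = false := by
        rw [Bool.eq_false_iff]
        exact fun h => h1 (Nat.eq_of_beq_eq_true h)
      have e2 : Nat.beq d 32 = false := by
        rw [Bool.eq_false_iff]
        exact fun h => h32 (Nat.eq_of_beq_eq_true h)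
      rw [ok, List.contains_iff_mem.2 hA, e1, e2]
      rfl

theorem deg_X {X : Type v} [Group X] (h : Spor.IsoON X) :
    ∀ e ∈ charDegrees X, e = 1 ∨ (e ∣ 460815505920 ∧ ok e = true) := by
  obtain ⟨e⟩ := h
  intro d hd
  exact deg_on (by rw [← H424.DegTools.charDegrees_congr e]; exact hd)

def L : List (ℕ × ℕ) := [(2, 10), (3, 4), (5, 1), (7, 3), (11, 1), (19, 1), (31, 1)]

theorem hL : ∀ x ∈ L, x.1.Prime := by
  intro x hx
  simp only [L, List.mem_cons, List.not_mem_nil, or_false] at hx
  rcases hx with rfl | rfl | rfl | rfl | rfl | rfl | rfl <;> norm_num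

theorem c1 : ((L.map Prod.fst).all fun r => (List.range 40).all fun v => Nat.beq v 0 ||
    !(Nat.beq (921631011840 % r ^ v) 0 && f (r ^ v))) = true := by decide +kernel

theorem c2 : (List.range 13).all (fun m => Nat.ble m 6 || !f (m - 1)) = true := by decide +kernel

theorem c3 : dead f 653125 = true := by decide +kernel

theorem c4 : ((List.range 26).all fun i => Nat.beq i 17 || Nat.beq i 22 ||
    deadRow 921631011840 f (tab.getD i ([], []))) = true := by
  decide +kernel

section

variable {A : Type u} [Group A] [Finite A] {T : Subgroup A} (hA : AlmostSimple A T)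
  (hD : ∀ d ∈ charDegrees A, d = 1 ∨ (d ∣ 921631011840 ∧ f d = true))

include hA hD

theorem spor (h : IsSporadicGroup T) : Spor.IsoON T := by
  have hout := H489.card_out_sporadic h
  obtain ⟨i, hi, h1, h2, h3⟩ := exists_row h
  have h4 := List.all_eq_true.1 c4 i (List.mem_range.2 hi)
  rw [Bool.or_eq_true, Bool.or_eq_true] at h4
  rcases h4 with (h4 | h4) | h4
  · have h5 := Nat.eq_of_beq_eq_true h4
    subst h5
    exact h1
  · exfalso
    have h5 := Nat.eq_of_beq_eq_true h4
    subst h5
    obtain ⟨e⟩ : Spor.IsoHN T := h1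
    obtain ⟨χ, hχ⟩ := H456.S8.HNSolv.known 653125 (by simp)
    exact H521.S8.two hA hD hout (mem_of_equiv e ⟨χ, hχ⟩) (by norm_num) c3
  · exfalso
    rw [deadRow, Bool.or_eq_true] at h4
    rcases h4 with h4 | h4
    · obtain ⟨p, hp, h5⟩ := List.any_eq_true.1 h4
      have hpp : p.Prime := by
        have : ((List.range 26).all fun i => (tab.getD i ([], [])).1.all fun p => decide p.Prime) = true := by
          decide +kernel
        exact of_decide_eq_true (List.all_eq_true.1 (List.all_eq_true.1 this i (List.mem_range.2 hi)) p hp)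
      have h6 := pr hA hD hpp (h2 p hp)
      rw [Nat.mod_eq_zero_of_dvd h6] at h5
      exact absurd h5 (by decide)
    · obtain ⟨k, hk, h5⟩ := List.any_eq_true.1 h4
      have hk1 : k ≠ 1 := by
        rintro rfl
        have : ((List.range 26).all fun i => (tab.getD i ([], [])).2.all fun k => !Nat.beq k 1) = true := by
          decide +kernel
        have h6 := List.all_eq_true.1 (List.all_eq_true.1 this i (List.mem_range.2 hi)) 1 hk
        exact absurd h6 (by decide)
      exact H521.S8.two hA hD hout (h3 k hk) hk1 h5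

theorem main : Spor.IsoON T := by
  have := hA.simple
  have hLM : facProd L = 921631011840 := by decide +kernel
  rcases exists_split T hA.nonab with ⟨l, hl, ⟨e⟩⟩ | ⟨r, hr, h⟩ | h | h
  · exact (alt hA hD hL hLM (B := 40) (by norm_num) c1 (by norm_num) (q := 13) (by norm_num) (by norm_num) (by norm_num)
      c2 hl e).elim
  · exact (lie hA hD hL hLM (B := 40) (by norm_num) c1 (by norm_num) hr h).elim
  · exact (tits hA hD (Or.inr (Or.inr (Or.inr (Or.inr (by norm_num))))) h).elim
  · exact spor hA hD h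

end

/-- the degrees in `D` -/
theorem degD {X : Type v} [Group X] [Finite X] (hX : Spor.IsoON X) {D : Set ℕ} (hD : H704.S8.Deg 2 X D) :
    ∀ d ∈ D, d = 1 ∨ (d ∣ 921631011840 ∧ f d = true) := by
  have hsp : IsSporadicGroup X := by
    unfold IsSporadicGroup
    simp only [hX, true_or, or_true]
  have hdeg := deg_X hX
  obtain ⟨e⟩ := hX
  have := H393.S8.ON.simple
  have hs : IsSimpleGroup X := e.isSimpleGroup
  have hna : ¬ IsMulCommutative X := by
    intro hc
    apply H393.S8.ON.not_comm
    refine ⟨⟨fun a b => e.symm.injective ?_⟩⟩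
    rw [map_mul, map_mul]
    exact hc.is_comm.comm _ _
  intro d hd
  have h1 := filt hna (H489.card_out_sporadic hsp) hdeg hD hd
  rwa [show 2 * 460815505920 = 921631011840 by norm_num] at h1

/-- **SOC1 for `O'N`** -/
theorem soc1 {X : Type v} [Group X] (hX : Spor.IsoON X) {D : Set ℕ} (hD : H704.S8.Deg 2 X D) :
    H704.S8.Soc1.{u} D X := by
  have hfin : Finite X := by
    obtain ⟨e⟩ := hX
    exact Finite.of_injective e e.injective
  intro A _ _ S hA h
  obtain ⟨e⟩ := main hA (fun d hd => degD hX hD d (h hd))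
  obtain ⟨f⟩ := hX
  exact ⟨e.trans f.symm⟩

end Cfsg.Agent.H168.S8.ONSoc
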